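import Groth.Agent.H23MulLaw.Field

/-!
# The norm power law on a finite field extension
-/

set_option autoImplicit false
universe u

open scoped TensorProduct
open Polynomial

namespace Groth.Agent.H23MulLaw

variable {k : Type u} [Field k] {K : Type u} [Field K] [Algebra k K] [FiniteDimensional k K]

section

variable (S : Type u) [CommRing S] [Algebra k S]

variable (k K) in
noncomputable def incl : S ⊗[k] separableClosure k K →ₐ[S] S ⊗[k] K :=
  Algebra.TensorProduct.map (AlgHom.id S S) (separableClosure k K).val

theorem incl_injective : Function.Injective (incl k K S) := by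
  have h := Module.Flat.lTensor_preserves_injective_linearMap (M := S) (separableClosure k K).val.toLinearMap
    (separableClosure k K).val.injective
  intro x y hxy
  refine h ?_
  have heq : ∀ t, (separableClosure k K).val.toLinearMap.lTensor S t = incl k K S t := fun t => by
    induction t using TensorProduct.induction_on with
    | zero => simp
    | tmul a b => simp [incl]
    | add a b ha hb => simp only [map_add, ha, hb]
  rw [heq, heq, hxy]

theorem exists_preimage_pow {q b e : ℕ} [ExpChar k q] (he : e = q ^ b)
    (hexp : ∀ x : K, x ^ e ∈ separableClosure k K) (z : S ⊗[k] K) :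
    ∃ w : S ⊗[k] separableClosure k K, incl k K S w = z ^ e := by
  induction z using TensorProduct.induction_on with
  | zero =>
    exact ⟨0, by rw [map_zero, zero_pow (he ▸ pow_ne_zero b (expChar_pos k q).ne' : e ≠ 0)]⟩
  | tmul a x =>
    exact ⟨(a ^ e) ⊗ₜ ⟨x ^ e, hexp x⟩, by simp [incl, Algebra.TensorProduct.tmul_pow]⟩
  | add x y hx hy =>
    obtain ⟨v, hv⟩ := hx
    obtain ⟨w, hw⟩ := hy
    refine ⟨v + w, ?_⟩
    rw [map_add, hv, hw]
    cases (inferInstance : ExpChar k q) with
    | zero => simp [he]
    | prime hp =>
      obtain ⟨r, hr⟩ := exists_add_pow_prime_pow_eq hp x y b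
      have h0 : (q : S ⊗[k] K) = 0 := by
        rw [← map_natCast (algebraMap k (S ⊗[k] K)), CharP.cast_eq_zero, map_zero]
      rw [he, hr, h0]
      simp

end

section Law

variable (q : ℕ) [ExpChar k q] {b e : ℕ}

theorem norm_bc {S S' : Type u} [CommRing S] [Algebra k S] [CommRing S'] [Algebra k S'] (ψ : S →ₐ[k] S')
    (w : S ⊗[k] separableClosure k K) :
    Algebra.norm S' (bc (K := separableClosure k K) ψ w) = ψ (Algebra.norm S w) := by
  classical
  let β := Module.finBasis k (separableClosure k K)
  let B := Algebra.TensorProduct.basis S β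
  let B' := Algebra.TensorProduct.basis S' β
  have hrepr : ∀ (t : S ⊗[k] separableClosure k K) i, B'.repr (bc ψ t) i = ψ (B.repr t i) := fun t i => by
    induction t using TensorProduct.induction_on with
    | zero => simp
    | tmul a x => simp [bc, B, B']
    | add x y hx hy => simp only [map_add, Finsupp.add_apply, hx, hy]
  have hB : ∀ j, bc ψ (B j) = B' j := fun j => by simp [bc, B, B']
  rw [Algebra.norm_eq_matrix_det B', Algebra.norm_eq_matrix_det B, AlgHom.map_det]
  congr 1
  ext i j
  rw [AlgHom.mapMatrix_apply, Matrix.map_apply, Algebra.leftMulMatrix_eq_repr_mul,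
    Algebra.leftMulMatrix_eq_repr_mul, ← hB, ← map_mul, hrepr]

theorem smul_eq_mul' {S : Type u} [CommRing S] [Algebra k S] {M : Type u} [CommRing M] [Algebra k M] (c : S)
    (t : S ⊗[k] M) : c • t = algebraMap S (S ⊗[k] M) c * t := by
  induction t using TensorProduct.induction_on with
  | zero => simp
  | tmul a x => simp [TensorProduct.smul_tmul']
  | add x y hx hy => simp only [smul_add, mul_add, hx, hy]

variable (k) in
/-- A commutative semiring that is an algebra over a field is a ring. -/
noncomputable abbrev toCR (S : Type u) [CommSemiring S] [Algebra k S] : CommRing S :=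
  { Algebra.semiringToRing k (A := S) with mul_comm := mul_comm }

include q in
theorem exists_law (he : e = q ^ b) (hexp : ∀ x : K, x ^ e ∈ separableClosure k K) (m : ℕ) :
    ∃ F : K →ₚₗ[k] k, Good (Field.finSepDegree k K * (e * m)) F := by
  classical
  choose φ hφ using fun (S : Type u) (_ : CommSemiring S) (_ : Algebra k S) (z : S ⊗[k] K) =>
    letI := toCR k S
    exists_preimage_pow (K := K) S he hexp z
  have hdeg : Module.finrank k (separableClosure k K) = Field.finSepDegree k K := by
    rw [Field.finSepDegree_eq, Cardinal.toNat]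
    rfl
  let F : K →ₚₗ[k] k :=
    { toFun' := fun S _ _ z => letI := toCR k S
        (Algebra.norm S (φ S inferInstance inferInstance z) ^ m) ⊗ₜ[k] (1 : k)
      isCompat' := fun {S} _ _ {S'} _ _ ψ => by
        letI := toCR k S
        letI := toCR k S'
        funext z
        show ψ.toLinearMap.rTensor k ((Algebra.norm S (φ S _ _ z) ^ m) ⊗ₜ[k] (1 : k)) =
          (Algebra.norm S' (φ S' _ _ (ψ.toLinearMap.rTensor K z)) ^ m) ⊗ₜ[k] (1 : k)
        have hw : φ S' inferInstance inferInstance (ψ.toLinearMap.rTensor K z) =
            bc (K := separableClosure k K) ψ (φ S inferInstance inferInstance z) := by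
          refine incl_injective S' ?_
          rw [hφ, bc_eq, ← map_pow, ← hφ S inferInstance inferInstance z]
          generalize φ S inferInstance inferInstance z = t
          induction t using TensorProduct.induction_on with
          | zero => simp
          | tmul a x => simp [incl, bc]
          | add x y hx hy => simp only [map_add, hx, hy]
        rw [hw, norm_bc, LinearMap.rTensor_tmul, AlgHom.toLinearMap_apply, map_pow] }
  have main : ∀ (S : Type u) [CommSemiring S] [Algebra k S], (F.toFun' S 1 = 1 ∧
      ∀ x y : S ⊗[k] K, F.toFun' S (x * y) = F.toFun' S x * F.toFun' S y) ∧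
      ∀ (a : S) (z : S ⊗[k] K),
        F.toFun' S (a • z) = a ^ (Field.finSepDegree k K * (e * m)) • F.toFun' S z := by
    intro S _ _
    letI := toCR k S
    refine ⟨⟨?_, fun x y => ?_⟩, fun a z => ?_⟩
    · show (Algebra.norm S (φ S _ _ 1) ^ m) ⊗ₜ[k] (1 : k) = 1
      rw [show φ S inferInstance inferInstance (1 : S ⊗[k] K) = 1 from
        incl_injective S ((hφ S _ _ 1).trans ((one_pow e).trans (incl k K S).map_one.symm)),
        map_one, one_pow]
      rfl
    · show (Algebra.norm S (φ S _ _ (x * y)) ^ m) ⊗ₜ[k] (1 : k) = _ ⊗ₜ[k] (1 : k) * _ ⊗ₜ[k] (1 : k)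
      rw [show φ S inferInstance inferInstance (x * y) =
          φ S inferInstance inferInstance x * φ S inferInstance inferInstance y from
        incl_injective S (by rw [map_mul, hφ, hφ, hφ, mul_pow]), map_mul, mul_pow,
        Algebra.TensorProduct.tmul_mul_tmul, one_mul]
    · show (Algebra.norm S (φ S _ _ (a • z)) ^ m) ⊗ₜ[k] (1 : k) = a ^ _ • (_ ⊗ₜ[k] (1 : k))
      have hsm : φ S inferInstance inferInstance (a • z) = a ^ e • φ S inferInstance inferInstance z :=
        incl_injective S (by rw [hφ, map_smul, hφ, _root_.smul_pow])
      rw [hsm, show a ^ e • φ S inferInstance inferInstance z =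
          algebraMap S (S ⊗[k] separableClosure k K) (a ^ e) * φ S inferInstance inferInstance z from
          smul_eq_mul' _ _, map_mul,
        Algebra.norm_algebraMap_of_basis (Algebra.TensorProduct.basis S (Module.finBasis k _)),
        Fintype.card_fin, hdeg, TensorProduct.smul_tmul', smul_eq_mul, mul_pow]
      congr 2
      ring
  exact ⟨F, fun S _ _ => (main S).1, fun S _ _ => (main S).2⟩

end Law

end Groth.Agent.H23MulLaw
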