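import Mathlib

/-!
# Multiplicative homogeneous polynomial laws on a finite field extension
-/

set_option autoImplicit false
set_option linter.style.haveILetI false
universe u

open scoped TensorProduct
open Polynomial
open scoped Classical

namespace Groth.Agent.H23MulLaw

variable {k : Type u} [Field k] {K : Type u} [Field K] [Algebra k K]

/-- The hypothesis of the statement on a law. -/
def Good (d : ℕ) (F : K →ₚₗ[k] k) : Prop :=
  (∀ (S : Type u) [CommRing S] [Algebra k S], F.toFun' S 1 = 1 ∧
    ∀ x y : S ⊗[k] K, F.toFun' S (x * y) = F.toFun' S x * F.toFun' S y) ∧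
  ∀ (S : Type u) [CommRing S] [Algebra k S] (a : S) (z : S ⊗[k] K), F.toFun' S (a • z) = a ^ d • F.toFun' S z

noncomputable def val (F : K →ₚₗ[k] k) (S : Type u) [CommRing S] [Algebra k S] (z : S ⊗[k] K) : S :=
  Algebra.TensorProduct.rid k S S (F.toFun' S z)

noncomputable def bc {S S' : Type u} [CommRing S] [Algebra k S] [CommRing S'] [Algebra k S'] (φ : S →ₐ[k] S') :
    S ⊗[k] K →ₐ[k] S' ⊗[k] K := Algebra.TensorProduct.map φ (AlgHom.id k K)

section Basic

variable {F : K →ₚₗ[k] k} {d : ℕ} {S S' : Type u} [CommRing S] [Algebra k S] [CommRing S'] [Algebra k S']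

theorem bc_eq (φ : S →ₐ[k] S') (z : S ⊗[k] K) : φ.toLinearMap.rTensor K z = bc φ z := by
  induction z using TensorProduct.induction_on with
  | zero => simp
  | tmul s x => simp [bc]
  | add a b ha hb => simp [map_add, ha, hb]

theorem val_bc (φ : S →ₐ[k] S') (z : S ⊗[k] K) : val F S' (bc φ z) = φ (val F S z) := by
  have h := PolynomialLaw.isCompat_apply' (f := F) φ z
  rw [bc_eq, bc_eq] at h
  unfold val
  rw [← h]
  generalize F.toFun' S z = t
  induction t using TensorProduct.induction_on with
  | zero => simp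
  | tmul s c => simp [bc, Algebra.smul_def]
  | add a b ha hb => simp [map_add, ha, hb]

theorem val_mul (h : Good d F) (x y : S ⊗[k] K) : val F S (x * y) = val F S x * val F S y := by
  rw [val, (h.1 S).2, map_mul]; rfl

theorem val_one (h : Good d F) : val F S 1 = 1 := by
  rw [val, (h.1 S).1, map_one]

theorem val_smul (h : Good d F) (a : S) (z : S ⊗[k] K) : val F S (a • z) = a ^ d * val F S z := by
  rw [val, h.2 S, map_smul, smul_eq_mul]; rfl

theorem val_pow (h : Good d F) (x : S ⊗[k] K) (n : ℕ) : val F S (x ^ n) = val F S x ^ n := by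
  induction n with
  | zero => rw [pow_zero, pow_zero, val_one h]
  | succ n ih => rw [pow_succ, pow_succ, val_mul h, ih]

theorem val_prod (h : Good d F) {ι : Type*} (s : Finset ι) (f : ι → S ⊗[k] K) :
    val F S (∏ i ∈ s, f i) = ∏ i ∈ s, val F S (f i) := by
  classical
  induction s using Finset.induction_on with
  | empty => rw [Finset.prod_empty, Finset.prod_empty, val_one h]
  | insert i s hi ih => rw [Finset.prod_insert hi, Finset.prod_insert hi, val_mul h, ih]

end Basic

/-- A multiplicative polynomial function over an infinite domain is a power. -/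
theorem exists_eq_X_pow {L : Type*} [Field L] [Infinite L] (P : L[X]) (h1 : P.eval 1 = 1)
    (hmul : ∀ c : L, P.comp (C c * X) = C (P.eval c) * P) : ∃ n, P = X ^ n := by
  have hc : ∀ (c : L) i, c ^ i * P.coeff i = P.eval c * P.coeff i := fun c i => by
    have := congrArg (fun Q => coeff Q i) (hmul c)
    simp only [comp_C_mul_X_coeff, coeff_C_mul] at this
    rw [mul_comm]; exact this
  have hne : P ≠ 0 := by rintro rfl; simp at h1
  refine ⟨P.natDegree, ?_⟩
  have hl : P.coeff P.natDegree ≠ 0 := leadingCoeff_ne_zero.2 hne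
  have hev : ∀ c, P.eval c = c ^ P.natDegree := fun c =>
    mul_right_cancel₀ hl ((hc c P.natDegree).symm)
  exact Polynomial.funext fun c => by rw [hev, eval_pow, eval_X]

variable [FiniteDimensional k K] (Ω : Type u) [Field Ω] [Algebra k Ω] [IsAlgClosed Ω]

local notation "Ks" => separableClosure k K
local notation "Emb" => (K →ₐ[k] Ω)

section Embeddings

variable (q : ℕ) [ExpChar k q]

include q in
theorem restrict_injective : Function.Injective fun σ : Emb => σ.comp (separableClosure k K).val := by
  intro σ τ h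
  haveI : ExpChar Ks q := expChar_of_injective_algebraMap (algebraMap k Ks).injective q
  haveI : ExpChar Ω q := expChar_of_injective_algebraMap (algebraMap k Ω).injective q
  refine AlgHom.ext fun x => ?_
  obtain ⟨m, y, hy⟩ := IsPurelyInseparable.pow_mem (F := Ks) q x
  refine iterateFrobenius_inj Ω q m ?_
  simp only [iterateFrobenius_def, ← map_pow, ← hy]
  exact AlgHom.congr_fun h y

theorem card_emb : Fintype.card Emb = Field.finSepDegree k K := by
  rw [Field.finSepDegree_eq_of_isAlgClosed k K Ω, Nat.card_eq_fintype_card]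

set_option backward.isDefEq.respectTransparency false in
include q in
/-- The idempotents of the split separable closure. -/
theorem exists_eps : ∃ ε : Emb → Ω ⊗[k] K,
    (∀ x : K, x ∈ separableClosure k K → (1 : Ω) ⊗ₜ[k] x = ∑ σ, σ x • ε σ) ∧
    (∀ σ τ : Emb, Algebra.TensorProduct.lift (AlgHom.id k Ω) τ (fun _ _ => mul_comm _ _) (ε σ) =
      Pi.single (M := fun _ => Ω) σ 1 τ) ∧
    (∀ σ, ε σ * ε σ = ε σ) ∧ (∀ σ τ, σ ≠ τ → ε σ * ε τ = 0) ∧ ∑ σ, ε σ = 1 ∧
    (∀ (γ : Ω ≃ₐ[k] Ω) σ, bc (γ : Ω →ₐ[k] Ω) (ε σ) = ε ((γ : Ω →ₐ[k] Ω).comp σ)) := by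
  classical
  let ev : Emb → (Ω ⊗[k] Ks →ₐ[Ω] Ω) := fun σ =>
    Algebra.TensorProduct.lift (AlgHom.id Ω Ω) (σ.comp (separableClosure k K).val) (fun _ _ => mul_comm _ _)
  let E : Ω ⊗[k] Ks →ₐ[Ω] (Emb → Ω) := AlgHom.pi ev
  have hEt : ∀ (a : Ω) (w : Ks) (τ : Emb), E (a ⊗ₜ[k] w) τ = a * τ w := fun a w τ =>
    Algebra.TensorProduct.lift_tmul (AlgHom.id Ω Ω) (τ.comp (separableClosure k K).val) (fun _ _ => mul_comm _ _) a w
  have hdim : Module.finrank Ω (Ω ⊗[k] Ks) = Fintype.card Emb := by
    rw [Module.finrank_baseChange, card_emb, Field.finSepDegree_eq, Cardinal.toNat]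
    rfl
  have hsurj : Function.Surjective E := by
    have hli : LinearIndependent Ω fun σ : Emb => ((σ.comp (separableClosure k K).val).toLinearMap) :=
      (linearIndependent_toLinearMap k Ks Ω).comp _ (restrict_injective Ω q)
    show Function.Surjective E.toLinearMap
    rw [← LinearMap.range_eq_top (f := E.toLinearMap)]
    by_contra hne
    obtain ⟨φ, hφ0, hφ⟩ := Submodule.exists_dual_map_eq_bot_of_lt_top (lt_top_iff_ne_top.2 hne) inferInstance
    have hcomb : ∑ σ : Emb, φ (Pi.single σ 1) • (σ.comp (separableClosure k K).val).toLinearMap = 0 := by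
      refine LinearMap.ext fun w => ?_
      have h0 : φ (E ((1 : Ω) ⊗ₜ w)) = 0 := by
        have h' : φ (E ((1 : Ω) ⊗ₜ w)) ∈ (LinearMap.range E.toLinearMap).map φ :=
          Submodule.mem_map_of_mem (show E ((1 : Ω) ⊗ₜ[k] w) ∈ LinearMap.range E.toLinearMap from LinearMap.mem_range.2 ⟨(1 : Ω) ⊗ₜ[k] w, AlgHom.toLinearMap_apply _ _⟩)
        rwa [hφ, Submodule.mem_bot] at h'
      rw [LinearMap.zero_apply, ← h0]
      conv_rhs => rw [pi_eq_sum_univ' (E ((1 : Ω) ⊗ₜ w)), map_sum]
      rw [LinearMap.sum_apply]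
      refine Finset.sum_congr rfl fun σ _ => ?_
      rw [map_smul, LinearMap.smul_apply, smul_eq_mul, smul_eq_mul, mul_comm, hEt, one_mul]
      rfl
    apply hφ0
    refine LinearMap.pi_ext' fun σ => LinearMap.ext_ring ?_
    simpa using Fintype.linearIndependent_iff.1 hli _ hcomb σ
  have hinj : Function.Injective E :=
    (LinearMap.injective_iff_surjective_of_finrank_eq_finrank (f := E.toLinearMap)
      (by rw [hdim, Module.finrank_fintype_fun_eq_card])).2 hsurj
  choose η hη using fun σ : Emb => hsurj (Pi.single σ 1)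
  let ι : Ω ⊗[k] Ks →ₐ[k] Ω ⊗[k] K := Algebra.TensorProduct.map (AlgHom.id k Ω) (separableClosure k K).val
  refine ⟨fun σ => ι (η σ), ?_, ?_, ?_, ?_, ?_, ?_⟩
  · intro x hx
    have h : (1 : Ω) ⊗ₜ[k] (⟨x, hx⟩ : Ks) = ∑ σ, σ x • η σ := hinj (by
      rw [map_sum]
      simp only [map_smul, hη]
      funext τ
      simp [hEt, Pi.single_apply, Finset.sum_apply])
    have hι : ∀ (c : Ω) (t : Ω ⊗[k] Ks), ι (c • t) = c • ι t := fun c t => by
      induction t using TensorProduct.induction_on with
      | zero => simp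
      | tmul a w => simp [ι, TensorProduct.smul_tmul']
      | add a b ha hb => simp only [smul_add, map_add, ha, hb]
    have h' := congrArg ι h
    rw [map_sum] at h'
    simp only [hι] at h'
    refine Eq.trans ?_ h'
    simp [ι]
  · intro σ τ
    rw [← hη σ]
    show Algebra.TensorProduct.lift (AlgHom.id k Ω) τ (fun _ _ => mul_comm _ _) (ι (η σ)) = E (η σ) τ
    generalize η σ = t
    induction t using TensorProduct.induction_on with
    | zero => simp
    | tmul a w => simp [ι, hEt]
    | add a b ha hb => simp only [map_add, Pi.add_apply, ha, hb]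
  · intro σ
    rw [← map_mul]
    congr 1
    exact hinj (by rw [map_mul, hη, ← Pi.single_mul, one_mul])
  · intro σ τ hne
    rw [← map_mul, ← map_zero ι]
    congr 1
    refine hinj ?_
    rw [map_mul, hη, hη, map_zero]
    funext ρ
    rcases eq_or_ne ρ σ with rfl | h
    · simp [Pi.single_eq_of_ne hne]
    · simp [Pi.single_eq_of_ne h]
  · rw [← map_sum]
    have h1 : ∑ σ, η σ = 1 := by
      refine hinj ?_
      rw [map_sum]
      simp only [hη]
      exact (Finset.univ_sum_single (1 : Emb → Ω)).trans E.map_one.symm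
    rw [h1]
    simp [ι, Algebra.TensorProduct.one_def]
  · intro γ σ
    let g : Ω ⊗[k] Ks →ₐ[k] Ω ⊗[k] Ks := Algebra.TensorProduct.map (γ : Ω →ₐ[k] Ω) (AlgHom.id k Ks)
    have hg : g (η σ) = η ((γ : Ω →ₐ[k] Ω).comp σ) := by
      refine hinj ?_
      rw [hη]
      funext τ
      have hcomm : ∀ t, E (g t) τ = γ (E t ((γ.symm : Ω →ₐ[k] Ω).comp τ)) := fun t => by
        induction t using TensorProduct.induction_on with
        | zero => simp
        | tmul a w => simp [g, hEt]
        | add a b ha hb => simp only [map_add, Pi.add_apply, ha, hb]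
      rw [hcomm, hη, Pi.single_apply, Pi.single_apply]
      have : ((γ.symm : Ω →ₐ[k] Ω).comp τ = σ) ↔ (τ = (γ : Ω →ₐ[k] Ω).comp σ) := by
        constructor
        · rintro rfl; ext x; simp
        · rintro rfl; ext x; simp
      by_cases hτ : τ = (γ : Ω →ₐ[k] Ω).comp σ
      · rw [if_pos hτ, if_pos (this.2 hτ), map_one]
      · rw [if_neg hτ, if_neg (mt this.1 hτ), map_zero]
    show bc _ (ι (η σ)) = ι _
    rw [← hg]
    generalize η σ = t
    induction t using TensorProduct.induction_on with
    | zero => simp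
    | tmul a w => simp [g, ι, bc]
    | add a b ha hb => simp only [map_add, ha, hb]

theorem exists_comp_eq [Algebra.IsAlgebraic k Ω] (σ τ : Emb) :
    ∃ γ : Ω ≃ₐ[k] Ω, (γ : Ω →ₐ[k] Ω).comp σ = τ := by
  haveI : Normal k Ω := by
    haveI : IsAlgClosure k Ω := ⟨inferInstance, inferInstance⟩
    exact IsAlgClosure.normal k Ω
  let e : σ.fieldRange ≃ₐ[k] τ.fieldRange :=
    (AlgEquiv.ofInjectiveField σ).symm.trans (AlgEquiv.ofInjectiveField τ)
  refine ⟨AlgEquiv.ofBijective (e.toAlgHom.liftNormal Ω) (Algebra.IsAlgebraic.algHom_bijective _), ?_⟩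
  ext x
  have h := (e.toAlgHom).liftNormal_commutes Ω (AlgEquiv.ofInjectiveField σ x)
  rw [show algebraMap σ.fieldRange Ω (AlgEquiv.ofInjectiveField σ x) = σ x from rfl] at h
  refine h.trans ?_
  show ((e (AlgEquiv.ofInjectiveField σ x) : τ.fieldRange) : Ω) = τ x
  rw [show e (AlgEquiv.ofInjectiveField σ x) = AlgEquiv.ofInjectiveField τ x by
    exact congrArg (AlgEquiv.ofInjectiveField τ) ((AlgEquiv.ofInjectiveField σ).symm_apply_apply x)]
  rfl

end Embeddings

section Law

variable (q : ℕ) [ExpChar k q] {d e b : ℕ} {F : K →ₚₗ[k] k}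

variable {Ω} in
noncomputable def ev (S : Type u) [CommRing S] [Algebra k S] [Algebra Ω S] [IsScalarTower k Ω S] (σ : Emb) :
    S ⊗[k] K →ₐ[k] S :=
  Algebra.TensorProduct.lift (AlgHom.id k S) ((IsScalarTower.toAlgHom k Ω S).comp σ) (fun _ _ => mul_comm _ _)

set_option backward.isDefEq.respectTransparency false in
include q in
/-- The value of a law on points in a domain over the algebraic closure. -/
theorem exists_exponent [Algebra.IsAlgebraic k Ω] (hexp : ∀ x : K, x ^ e ∈ separableClosure k K)
    (he : e = q ^ b) (hF : Good d F) :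
    ∃ n : ℕ, n * Field.finSepDegree k K = d ∧
      ∀ (S : Type u) [CommRing S] [IsDomain S] [Algebra k S] [Algebra Ω S] [IsScalarTower k Ω S]
        (z : S ⊗[k] K), val F S z = (∏ σ : Emb, ev S σ z) ^ n := by
  classical
  obtain ⟨ε, hε, hεev, hεi, hε0, hεs, hεγ⟩ := exists_eps (k := k) (K := K) Ω q
  let pt : ∀ (S : Type u) [CommRing S] [Algebra k S] [Algebra Ω S] [IsScalarTower k Ω S], (Emb → S) → S ⊗[k] K :=
    fun S _ _ _ _ a => ∑ σ, a σ • bc (IsScalarTower.toAlgHom k Ω S) (ε σ)
  have hpt_mul : ∀ (S : Type u) [CommRing S] [Algebra k S] [Algebra Ω S] [IsScalarTower k Ω S] (a a' : Emb → S),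
      pt S (a * a') = pt S a * pt S a' := by
    intro S _ _ _ _ a a'
    simp only [pt]
    rw [Finset.sum_mul]
    refine Finset.sum_congr rfl fun σ _ => ?_
    rw [Finset.mul_sum, Finset.sum_eq_single σ]
    · rw [smul_mul_smul_comm, ← map_mul, hεi]; rfl
    · intro τ _ hne
      rw [smul_mul_smul_comm, ← map_mul, hε0 σ τ hne.symm, map_zero, smul_zero]
    · simp
  have hpt_one : ∀ (S : Type u) [CommRing S] [Algebra k S] [Algebra Ω S] [IsScalarTower k Ω S],
      pt S 1 = 1 := by
    intro S _ _ _ _
    simp only [pt, Pi.one_apply, one_smul]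
    rw [← map_sum, hεs, map_one]
  let g : ∀ (σ : Emb) (S : Type u) [CommRing S] [Algebra k S] [Algebra Ω S] [IsScalarTower k Ω S], S → S :=
    fun σ S _ _ _ _ s => val F S (pt S (Pi.mulSingle σ s))
  have hg_nat : ∀ (σ : Emb) (S S' : Type u) [CommRing S] [Algebra k S] [Algebra Ω S] [IsScalarTower k Ω S]
      [CommRing S'] [Algebra k S'] [Algebra Ω S'] [IsScalarTower k Ω S'] (φ : S →ₐ[Ω] S') (s : S),
      g σ S' (φ s) = φ (g σ S s) := by
    intro σ S S' _ _ _ _ _ _ _ _ φ s
    simp only [g]
    refine Eq.trans ?_ (val_bc (φ.restrictScalars k) _)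
    congr 1
    simp only [pt, map_sum]
    refine Finset.sum_congr rfl fun τ _ => ?_
    have hsm : ∀ (a : S) (z : S ⊗[k] K),
        bc (φ.restrictScalars k) (a • z) = φ a • bc (φ.restrictScalars k) z := fun a z => by
      induction z using TensorProduct.induction_on with
      | zero => simp
      | tmul x y => simp [bc, TensorProduct.smul_tmul']
      | add x y hx hy => simp only [smul_add, map_add, hx, hy]
    rw [hsm]
    have hcc : ∀ t, bc (φ.restrictScalars k) (bc (IsScalarTower.toAlgHom k Ω S) t) =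
        bc (K := K) (IsScalarTower.toAlgHom k Ω S') t := fun t => by
      induction t using TensorProduct.induction_on with
      | zero => simp
      | tmul x y => simp [bc]
      | add x y hx hy => simp only [map_add, hx, hy]
    rw [hcc]
    congr 1
    rcases eq_or_ne τ σ with rfl | hne
    · simp
    · simp [Pi.mulSingle_eq_of_ne hne]
  let P : Emb → (Polynomial Ω) := fun σ => g σ (Polynomial Ω) X
  have hgP : ∀ (σ : Emb) (S : Type u) [CommRing S] [Algebra k S] [Algebra Ω S] [IsScalarTower k Ω S] (s : S),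
      g σ S s = aeval s (P σ) := by
    intro σ S _ _ _ _ s
    have := hg_nat σ (Polynomial Ω) S (aeval s) X
    rwa [aeval_X] at this
  have hgmul : ∀ (σ : Emb) (S : Type u) [CommRing S] [Algebra k S] [Algebra Ω S] [IsScalarTower k Ω S] (s t : S),
      g σ S (s * t) = g σ S s * g σ S t := fun σ S _ _ _ _ s t => by
    simp only [g]
    rw [← val_mul hF, ← hpt_mul, ← Pi.mulSingle_mul]
  have hPn : ∀ σ, ∃ n, P σ = X ^ n := fun σ => by
    refine exists_eq_X_pow (P σ) ?_ fun c => ?_
    · have h1 := hgP σ Ω (1 : Ω)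
      rw [coe_aeval_eq_eval] at h1
      rw [← h1]
      simp only [g, Pi.mulSingle_one, hpt_one]
      exact val_one hF
    · have h1 := hgP σ (Polynomial Ω) (C c * X)
      have hC : g σ (Polynomial Ω) (C c) = C ((P σ).eval c) := by
        rw [hgP σ (Polynomial Ω) (C c), ← algebraMap_eq, aeval_algebraMap_apply, algebraMap_eq, coe_aeval_eq_eval]
      rw [hgmul, hC] at h1
      rw [comp_eq_aeval, ← h1]
  choose N hN using hPn
  have hG : ∀ (S : Type u) [CommRing S] [Algebra k S] [Algebra Ω S] [IsScalarTower k Ω S] (a : Emb → S),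
      val F S (pt S a) = ∏ σ, a σ ^ N σ := by
    intro S _ _ _ _ a
    conv_lhs => rw [← Finset.univ_prod_mulSingle a]
    have hprod : ∀ s : Finset Emb, pt S (∏ σ ∈ s, Pi.mulSingle σ (a σ)) = ∏ σ ∈ s, pt S (Pi.mulSingle σ (a σ)) := by
      intro s
      induction s using Finset.induction_on with
      | empty => rw [Finset.prod_empty, Finset.prod_empty, hpt_one]
      | insert i s hi ih => rw [Finset.prod_insert hi, Finset.prod_insert hi, hpt_mul, ih]
    rw [hprod, val_prod hF]
    refine Finset.prod_congr rfl fun σ _ => ?_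
    show g σ S (a σ) = _
    rw [hgP, hN, map_pow, aeval_X]
  have hsum : ∑ σ, N σ = d := by
    have h1 := hG (Polynomial Ω) (fun _ => X)
    have h2 : pt (Polynomial Ω) (fun _ : Emb => (X : (Polynomial Ω))) = (X : (Polynomial Ω)) • 1 := by
      rw [← hpt_one (Polynomial Ω)]
      simp [pt, Finset.smul_sum]
    rw [h2, val_smul hF, val_one hF, mul_one, Finset.prod_pow_eq_pow_sum] at h1
    exact (by simpa using congrArg natDegree h1 : d = ∑ σ, N σ).symm
  have hN_eq : ∀ σ τ, N σ = N τ := by
    intro σ τ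
    obtain ⟨γ, hγ⟩ := exists_comp_eq (k := k) Ω σ τ
    have key : ∀ c : Ω, γ (g σ Ω c) = g τ Ω (γ c) := by
      intro c
      simp only [g]
      refine (val_bc (F := F) (γ : Ω →ₐ[k] Ω) _).symm.trans ?_
      congr 1
      simp only [pt, map_sum]
      have hid : ∀ t : Ω ⊗[k] K, bc (IsScalarTower.toAlgHom k Ω Ω) t = t := fun t => by
        induction t using TensorProduct.induction_on with
        | zero => simp
        | tmul x y => simp [bc]
        | add x y hx hy => simp only [map_add, hx, hy]
      have hsm : ∀ (a : Ω) (z : Ω ⊗[k] K),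
          bc (γ : Ω →ₐ[k] Ω) (a • z) = γ a • bc (γ : Ω →ₐ[k] Ω) z := fun a z => by
        induction z using TensorProduct.induction_on with
        | zero => simp
        | tmul x y => simp [bc, TensorProduct.smul_tmul']
        | add x y hx hy => simp only [smul_add, map_add, hx, hy]
      simp only [hid, hsm, hεγ]
      let π : Emb ≃ Emb :=
        { toFun := fun ρ => (γ : Ω →ₐ[k] Ω).comp ρ
          invFun := fun ρ => (γ.symm : Ω →ₐ[k] Ω).comp ρ
          left_inv := fun ρ => by ext x; simp
          right_inv := fun ρ => by ext x; simp }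
      refine Fintype.sum_equiv π _ _ fun ρ => ?_
      show _ = Pi.mulSingle (M := fun _ => Ω) τ (γ c) (π ρ) • ε (π ρ)
      congr 1
      rcases eq_or_ne ρ σ with rfl | hne
      · rw [show π ρ = τ from hγ]; simp
      · rw [Pi.mulSingle_eq_of_ne hne, Pi.mulSingle_eq_of_ne (fun h => hne (π.injective (h.trans hγ.symm))), map_one]
    simp only [hgP, hN, map_pow, aeval_X] at key
    by_contra hne
    have hp : (X : (Polynomial Ω)) ^ N σ = X ^ N τ := Polynomial.funext fun c => by
      simp only [eval_pow, eval_X]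
      obtain ⟨c', rfl⟩ := γ.surjective c
      rw [← key]
    exact hne (by simpa using congrArg natDegree hp)
  obtain ⟨σ₀⟩ : Nonempty Emb := by
    rw [← Fintype.card_pos_iff, card_emb]
    exact Nat.pos_of_ne_zero (NeZero.ne _)
  refine ⟨N σ₀, ?_, fun S _ _ _ _ _ z => ?_⟩
  · rw [← hsum, Finset.sum_congr rfl (fun σ _ => hN_eq σ σ₀), Finset.sum_const, smul_eq_mul,
      Finset.card_univ, card_emb, mul_comm]
  · haveI : ExpChar S q := expChar_of_injective_algebraMap (algebraMap k S).injective q
    haveI : ExpChar (S ⊗[k] K) q := expChar_of_injective_algebraMap (FaithfulSMul.algebraMap_injective k _) q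
    refine iterateFrobenius_inj S q b ?_
    simp only [iterateFrobenius_def, ← he, ← val_pow hF, ← pow_mul, mul_comm _ e]
    have hz : ∀ t : S ⊗[k] K, t ^ e = pt S fun σ => ev S σ t ^ e := by
      intro t
      induction t using TensorProduct.induction_on with
      | zero => simp [pt, zero_pow (he ▸ pow_ne_zero b (expChar_pos k q).ne' : e ≠ 0)]
      | tmul s x =>
        rw [Algebra.TensorProduct.tmul_pow]
        have h := congrArg (bc (IsScalarTower.toAlgHom k Ω S)) (hε (x ^ e) (hexp x))
        rw [show bc (IsScalarTower.toAlgHom k Ω S) ((1 : Ω) ⊗ₜ[k] (x ^ e)) = (1 : S) ⊗ₜ[k] (x ^ e) by simp [bc],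
          map_sum] at h
        rw [show (s ^ e) ⊗ₜ[k] (x ^ e) = (s ^ e) • ((1 : S) ⊗ₜ[k] (x ^ e)) by simp [TensorProduct.smul_tmul'], h,
          Finset.smul_sum]
        refine Finset.sum_congr rfl fun σ _ => ?_
        have hsm : ∀ (a : Ω) (t : Ω ⊗[k] K),
            bc (IsScalarTower.toAlgHom k Ω S) (a • t) = algebraMap Ω S a • bc (IsScalarTower.toAlgHom k Ω S) t :=
          fun a t => by
            induction t using TensorProduct.induction_on with
            | zero => simp
            | tmul x y => simp [bc, TensorProduct.smul_tmul', Algebra.smul_def]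
            | add x y hx hy => simp only [smul_add, map_add, hx, hy]
        rw [hsm, smul_smul]
        congr 1
        simp [ev, mul_pow]
      | add x y hx hy =>
        subst he
        rw [add_pow_expChar_pow, hx, hy]
        simp only [pt, map_add, add_pow_expChar_pow, add_smul, Finset.sum_add_distrib]
    rw [hz, hG, Finset.prod_congr rfl (fun σ _ => by rw [hN_eq σ σ₀]), Finset.prod_pow, Finset.prod_pow, ← pow_mul]

end Law

end Groth.Agent.H23MulLaw
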