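import Groth.Agent.H23MulLaw.Exist

/-!
# Uniqueness and the quasi-degree criterion
-/

set_option autoImplicit false
universe u

open scoped TensorProduct Classical
open Polynomial

namespace Groth.Agent.H23MulLaw

variable {k : Type u} [Field k] {K : Type u} [Field K] [Algebra k K] [FiniteDimensional k K]

section

variable (q : ℕ) [ExpChar k q] {e : ℕ}

include q in
theorem exists_eq_pow (he : 0 < e) (hexp : ∀ x : K, x ^ e ∈ separableClosure k K)
    (hmin : ∀ n : ℕ, 0 < n → (∀ x : K, x ^ n ∈ separableClosure k K) → e ≤ n) : ∃ b, e = q ^ b := by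
  haveI : ExpChar (separableClosure k K) q :=
    expChar_of_injective_algebraMap (algebraMap k (separableClosure k K)).injective q
  haveI : ExpChar K q := expChar_of_injective_algebraMap (algebraMap k K).injective q
  let β := Module.finBasis k K
  choose m y hy using fun i => IsPurelyInseparable.pow_mem (F := separableClosure k K) q (β i)
  let N := Finset.univ.sup m
  have hN : ∀ x : K, x ^ q ^ N ∈ separableClosure k K := by
    intro x
    rw [← β.sum_repr x, ← iterateFrobenius_def, map_sum]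
    refine sum_mem fun i _ => ?_
    rw [iterateFrobenius_def, _root_.smul_pow]
    refine IntermediateField.smul_mem _ ?_
    obtain ⟨c, hc⟩ := Nat.exists_eq_add_of_le (Finset.le_sup (f := m) (Finset.mem_univ i))
    show β i ^ q ^ N ∈ _
    rw [show N = m i + c from hc, pow_add, pow_mul, ← hy i]
    exact pow_mem (y i).2 _
  have hg0 : 0 < e.gcd (q ^ N) := Nat.gcd_pos_of_pos_left _ he
  have hg : ∀ x : K, x ^ e.gcd (q ^ N) ∈ separableClosure k K := by
    intro x
    rcases eq_or_ne x 0 with rfl | hx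
    · rw [zero_pow hg0.ne']
      exact zero_mem _
    · rw [← zpow_natCast, Nat.gcd_eq_gcd_ab, zpow_add₀ hx, zpow_mul, zpow_mul, zpow_natCast, zpow_natCast]
      exact mul_mem (zpow_mem (hexp x) _) (zpow_mem (hN x) _)
  have heq : e.gcd (q ^ N) = e := le_antisymm (Nat.gcd_le_left _ he) (hmin _ hg0 hg)
  have hd : e ∣ q ^ N := heq ▸ Nat.gcd_dvd_right _ _
  cases (inferInstance : ExpChar k q) with
  | zero => exact ⟨0, by simpa using hd⟩
  | prime hp =>
    obtain ⟨b, _, hb⟩ := (Nat.dvd_prime_pow hp).1 hd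
    exact ⟨b, hb⟩

variable {b d : ℕ}

theorem finSepDegree_pos : 0 < Field.finSepDegree k K := Nat.pos_of_ne_zero (NeZero.ne _)

include q in
theorem law_unique (he : e = q ^ b) (hexp : ∀ x : K, x ^ e ∈ separableClosure k K) {F F' : K →ₚₗ[k] k}
    (hF : Good d F) (hF' : Good d F') : F = F' := by
  let Ω := AlgebraicClosure k
  obtain ⟨n, hn, hval⟩ := exists_exponent Ω q hexp he hF
  obtain ⟨n', hn', hval'⟩ := exists_exponent Ω q hexp he hF'
  obtain rfl : n = n' := Nat.eq_of_mul_eq_mul_right finSepDegree_pos (hn.trans hn'.symm)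
  let β := Module.finBasis k K
  let A := MvPolynomial (Fin (Module.finrank k K)) k
  let gen : A ⊗[k] K := ∑ i, MvPolynomial.X i ⊗ₜ[k] β i
  have hgen : val F A gen = val F' A gen := by
    let B := MvPolynomial (Fin (Module.finrank k K)) Ω
    let ψ : A →ₐ[k] B := MvPolynomial.mapAlgHom (Algebra.ofId k Ω)
    have hψ : Function.Injective ψ := MvPolynomial.map_injective _ (algebraMap k Ω).injective
    refine hψ ?_
    rw [← val_bc, ← val_bc, hval, hval']
  refine PolynomialLaw.ext ?_
  funext S i1 i2 z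
  letI := toCR k S
  apply (Algebra.TensorProduct.rid k S S).injective
  show val F S z = val F' S z
  have hz : ∃ s : Fin (Module.finrank k K) → S, z = ∑ i, s i ⊗ₜ[k] β i := by
    induction z using TensorProduct.induction_on with
    | zero => exact ⟨0, by simp⟩
    | tmul a x =>
      refine ⟨fun i => β.repr x i • a, ?_⟩
      conv_lhs => rw [← β.sum_repr x, TensorProduct.tmul_sum]
      simp [TensorProduct.smul_tmul]
    | add x y hx hy =>
      obtain ⟨s, rfl⟩ := hx
      obtain ⟨t, rfl⟩ := hy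
      exact ⟨s + t, by simp [TensorProduct.add_tmul, Finset.sum_add_distrib]⟩
  obtain ⟨s, rfl⟩ := hz
  have hb : bc (K := K) (MvPolynomial.aeval s : A →ₐ[k] S) gen = ∑ i, s i ⊗ₜ[k] β i := by
    simp [gen, bc, map_sum]
  rw [← hb, val_bc, val_bc, hgen]

end

section Necessity

variable (Ω : Type u) [Field Ω] [Algebra k Ω] [IsAlgClosed Ω]

local notation "Emb" => (K →ₐ[k] Ω)

/-- The power of the separable part of the characteristic polynomial is defined over `k`. -/
theorem exists_descend (q : ℕ) [ExpChar k q] {n a n'' : ℕ} {F : K →ₚₗ[k] k} (hn : n = q ^ a * n'')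
    (hval : ∀ (S : Type u) [CommRing S] [IsDomain S] [Algebra k S] [Algebra Ω S] [IsScalarTower k Ω S]
        (z : S ⊗[k] K), val F S z = (∏ σ : Emb, ev S σ z) ^ n) (x : K) :
    ∃ R : k[X], R.map (algebraMap k Ω) = (∏ σ : Emb, (X - C (σ (x ^ q ^ a)))) ^ n'' := by
  haveI : ExpChar Ω q := expChar_of_injective_algebraMap (algebraMap k Ω).injective q
  haveI : ExpChar (Polynomial Ω) q := expChar_of_injective_algebraMap (FaithfulSMul.algebraMap_injective k _) q
  let t : Polynomial k ⊗[k] K := X ⊗ₜ[k] 1 - 1 ⊗ₜ[k] x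
  let ψ : Polynomial k →ₐ[k] Polynomial Ω := Polynomial.mapAlgHom (Algebra.ofId k Ω)
  have h := hval (Polynomial Ω) (bc ψ t)
  rw [val_bc] at h
  have hev : ∀ σ : Emb, ev (Polynomial Ω) σ (bc ψ t) = X - C (σ x) := fun σ => by
    simp [t, ψ, bc, ev]
  simp only [hev] at h
  have hmap : (val F (Polynomial k) t).map (algebraMap k Ω) =
      expand Ω (q ^ a) ((∏ σ : Emb, (X - C (σ (x ^ q ^ a)))) ^ n'') := by
    refine Eq.trans ?_ (h.trans ?_)
    · rfl
    rw [hn, pow_mul, ← Finset.prod_pow, map_pow, map_prod]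
    congr 1
    refine Finset.prod_congr rfl fun σ _ => ?_
    rw [sub_pow_expChar_pow, map_sub, expand_X, expand_C]
    simp only [map_pow]
  have hne : q ^ a ≠ 0 := pow_ne_zero _ (expChar_pos k q).ne'
  refine ⟨contract (q ^ a) (val F (Polynomial k) t), ?_⟩
  rw [map_contract hne, hmap]
  exact contract_expand (q ^ a) hne

include Ω in
theorem dvd_exponent (q : ℕ) [ExpChar k q] [Algebra.IsAlgebraic k Ω] {e b n : ℕ} {F : K →ₚₗ[k] k}
    (he : e = q ^ b) (hexp : ∀ x : K, x ^ e ∈ separableClosure k K)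
    (hmin : ∀ n : ℕ, 0 < n → (∀ x : K, x ^ n ∈ separableClosure k K) → e ≤ n)
    (hval : ∀ (S : Type u) [CommRing S] [IsDomain S] [Algebra k S] [Algebra Ω S] [IsScalarTower k Ω S]
        (z : S ⊗[k] K), val F S z = (∏ σ : Emb, ev S σ z) ^ n) : e ∣ n := by
  by_contra hndvd
  have hq1 : 1 < q := by
    by_contra h
    obtain rfl : q = 1 := le_antisymm (not_lt.1 h) (expChar_pos k q)
    exact hndvd (by simp [he])
  have hn0 : n ≠ 0 := by rintro rfl; exact hndvd (dvd_zero _)
  have hprime : q.Prime := (expChar_is_prime_or_one k q).resolve_right hq1.ne'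
  obtain ⟨a, n', hn', hn⟩ := Nat.exists_eq_pow_mul_and_not_dvd hn0 q hq1.ne'
  have hab : a < b := by
    by_contra h
    exact hndvd (he ▸ hn ▸ (pow_dvd_pow q (not_lt.1 h)).trans (dvd_mul_right _ _))
  haveI : ExpChar K q := expChar_of_injective_algebraMap (algebraMap k K).injective q
  obtain ⟨x₀, hx₀⟩ : ∃ x : K, x ^ q ^ a ∉ separableClosure k K := by
    by_contra h
    push Not at h
    have := hmin _ (pow_pos (expChar_pos k q) a) h
    rw [he] at this
    exact absurd this (not_le.2 (pow_lt_pow_right₀ hq1 hab))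
  haveI : Infinite k := by
    rcases finite_or_infinite k with hfin | hinf
    · exfalso
      haveI : PerfectField k := PerfectField.ofFinite
      exact hx₀ (mem_separableClosure_iff.2 (Algebra.IsSeparable.isSeparable k _))
    · exact hinf
  -- an element whose conjugates of the `e`-th power are distinct
  let pb := Field.powerBasisOfFiniteOfSeparable k (separableClosure k K)
  let y : K := (pb.gen : K)
  have hbad : {c : k | ∃ σ τ : Emb, σ ≠ τ ∧ σ ((x₀ + c • y) ^ e) = τ ((x₀ + c • y) ^ e)}.Finite := by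
    have : {c : k | ∃ σ τ : Emb, σ ≠ τ ∧ σ ((x₀ + c • y) ^ e) = τ ((x₀ + c • y) ^ e)} ⊆
        ⋃ p ∈ {p : Emb × Emb | p.1 ≠ p.2}, {c : k | p.1 ((x₀ + c • y) ^ e) = p.2 ((x₀ + c • y) ^ e)} := by
      rintro c ⟨σ, τ, hne, h⟩
      exact Set.mem_biUnion (x := (σ, τ)) hne h
    refine Set.Finite.subset (Set.Finite.biUnion (Set.toFinite _) fun p hp => Set.Subsingleton.finite ?_) this
    intro c hc c' hc'
    haveI : ExpChar Ω q := expChar_of_injective_algebraMap (algebraMap k Ω).injective q
    have key : ∀ c : k, p.1 ((x₀ + c • y) ^ e) - p.2 ((x₀ + c • y) ^ e) =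
        (p.1 (x₀ ^ e) - p.2 (x₀ ^ e)) + algebraMap k Ω (c ^ e) * (p.1 (y ^ e) - p.2 (y ^ e)) := by
      intro c
      rw [he, add_pow_expChar_pow, _root_.smul_pow, map_add, map_add, map_smul, map_smul, Algebra.smul_def,
        Algebra.smul_def]
      ring
    have hy : p.1 (y ^ e) - p.2 (y ^ e) ≠ 0 := by
      intro h
      refine hp (restrict_injective Ω q (pb.algHom_ext ?_))
      refine iterateFrobenius_inj Ω q b ?_
      simp only [iterateFrobenius_def, ← he, ← map_pow]
      exact sub_eq_zero.1 h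
    have h1 := key c
    have h2 := key c'
    rw [Set.mem_setOf_eq, ← sub_eq_zero] at hc hc'
    rw [hc] at h1
    rw [hc'] at h2
    have h3 := mul_right_cancel₀ hy (add_left_cancel (h1.symm.trans h2))
    refine iterateFrobenius_inj k q b ?_
    simpa only [iterateFrobenius_def, ← he] using (algebraMap k Ω).injective h3
  obtain ⟨c, hc⟩ := hbad.exists_notMem
  let x : K := x₀ + c • y
  let z : K := x ^ q ^ a
  have hz : z ∉ separableClosure k K := by
    intro h
    refine hx₀ ?_
    have hcy : (c • y) ^ q ^ a ∈ separableClosure k K :=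
      pow_mem (IntermediateField.smul_mem _ pb.gen.2) _
    have : z = x₀ ^ q ^ a + (c • y) ^ q ^ a := add_pow_expChar_pow ..
    rw [show x₀ ^ q ^ a = z - (c • y) ^ q ^ a by rw [this, add_sub_cancel_right]]
    exact sub_mem h hcy
  have hze : z ^ q ^ (b - a) = x ^ e := by
    show (x ^ q ^ a) ^ q ^ (b - a) = _
    rw [← pow_mul, ← pow_add, Nat.add_sub_cancel' hab.le, he]
  have hinj : Function.Injective fun σ : Emb => σ z := by
    intro σ τ h
    by_contra hne
    refine hc ⟨σ, τ, hne, ?_⟩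
    show σ (x ^ e) = τ (x ^ e)
    rw [← hze, map_pow σ z, map_pow τ z]
    exact congrArg (· ^ q ^ (b - a)) h
  -- the two descents
  obtain ⟨R₁, hR₁⟩ := exists_descend Ω q hn hval x
  obtain ⟨F₀, hF₀⟩ := exists_law (K := K) q he hexp 1
  obtain ⟨n₀, hn₀, hval₀⟩ := exists_exponent Ω q hexp he hF₀
  have hn₀e : n₀ = q ^ a * q ^ (b - a) := by
    rw [← pow_add, Nat.add_sub_cancel' hab.le, ← he]
    exact Nat.eq_of_mul_eq_mul_right finSepDegree_pos (hn₀.trans (by ring))
  obtain ⟨R₂, hR₂⟩ := exists_descend Ω q hn₀e hval₀ x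
  change R₁.map _ = (∏ σ : Emb, (X - C (σ z))) ^ n' at hR₁
  change R₂.map _ = (∏ σ : Emb, (X - C (σ z))) ^ q ^ (b - a) at hR₂
  have hP1 : (∏ σ : Emb, (X - C (σ z))).Monic := monic_prod_of_monic _ _ fun σ _ => monic_X_sub_C _
  set P := ∏ σ : Emb, (X - C (σ z)) with hP
  have hcop : Nat.Coprime n' (q ^ (b - a)) :=
    Nat.Coprime.pow_right _ ((hprime.coprime_iff_not_dvd.2 hn').symm)
  obtain ⟨i, -, hi⟩ := Nat.exists_mul_mod_eq_one_of_coprime hcop
    (Nat.one_lt_pow (Nat.sub_ne_zero_of_lt hab) hq1)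
  have hj := Nat.div_add_mod (n' * i) (q ^ (b - a))
  rw [hi] at hj
  set j := n' * i / q ^ (b - a)
  have hR₂m : R₂.Monic := monic_of_injective (algebraMap k Ω).injective (hR₂ ▸ hP1.pow _)
  let R := R₁ ^ i /ₘ R₂ ^ j
  have hR : R.map (algebraMap k Ω) = P := by
    rw [map_divByMonic _ (hR₂m.pow _), Polynomial.map_pow, Polynomial.map_pow, hR₁, hR₂, ← pow_mul, ← pow_mul, ← hj,
      pow_succ]
    exact mul_divByMonic_cancel_left _ (hP1.pow _)
  have hsep : R.Separable := by
    rw [← separable_map (algebraMap k Ω), hR]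
    exact separable_prod_X_sub_C_iff.2 hinj
  refine hz (mem_separableClosure_iff.2 (hsep.of_dvd (minpoly.dvd k z ?_)))
  obtain ⟨σ₀⟩ : Nonempty Emb := by
    rw [← Fintype.card_pos_iff, card_emb]
    exact finSepDegree_pos
  refine (map_eq_zero σ₀).1 ?_
  rw [← aeval_algHom_apply, aeval_def, ← eval_map, hR, hP, eval_prod]
  exact Finset.prod_eq_zero (Finset.mem_univ σ₀) (by simp)

end Necessity

end Groth.Agent.H23MulLaw
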